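import Groth.Agent.Lib.MagnetBB25.Line
import Mathlib.AlgebraicGeometry.Morphisms.Flat
import Mathlib.RingTheory.Polynomial.Basic
import Mathlib.RingTheory.RingHom.Flat
import Mathlib.RingTheory.Localization.FractionRing

/-! # Equivariant maps out of the affine line are determined by their restrictions to the thickenings of the origin -/

set_option autoImplicit false
set_option backward.isDefEq.respectTransparency false
set_option backward.isDefEq.respectTransparency.types false

universe u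

open CategoryTheory MonoidalCategory CartesianMonoidalCategory MonObj AlgebraicGeometry

noncomputable section

namespace GrothLib.MagnetBB

open Magnet MagnetPts

variable {S : Scheme.{u}} {X : Over S}

/-- The two maps agree at the points with nilpotent first coordinate. -/
def Agree {T₀ : Over S} (γ₁ γ₂ : AMonS S ↥N1 ⊗ T₀ ⟶ X) : Prop :=
  ∀ (T : Over S) (m : T ⟶ AMonS S ↥N1) (t : T ⟶ T₀),
    (∃ n : ℕ, ∀ m' : T ⟶ AMonS S ↥N1, m ^ (n + 1) * m' = m ^ (n + 1)) →
      lift m t ≫ γ₁ = lift m t ≫ γ₂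

theorem Agree.comp {T₀ T₁ : Over S} {γ₁ γ₂ : AMonS S ↥N1 ⊗ T₀ ⟶ X} (h : Agree γ₁ γ₂) (v : T₁ ⟶ T₀) :
    Agree ((AMonS S ↥N1 ◁ v) ≫ γ₁) ((AMonS S ↥N1 ◁ v) ≫ γ₂) := fun T m t hm => by
  simpa only [lift_whiskerLeft_assoc] using h T m (t ≫ v) hm

variable {B : Type u} [CommRing B] (s : Spec (CommRingCat.of B) ⟶ S)
variable {γ₁ γ₂ : AMonS S ↥N1 ⊗ Over.mk s ⟶ X}

theorem Agree.linePt_eq (h : Agree γ₁ γ₂) {E : Type u} [CommRing E] (j : B →+* E) (c : E) (n : ℕ)
    (hc : c ^ (n + 1) = 0) : linePt s j c ≫ γ₁ = linePt s j c ≫ γ₂ := by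
  refine h _ _ _ ⟨n, fun m' => ?_⟩
  obtain ⟨χ, rfl⟩ := (amsPoint ↥N1 (str s j)).surjective m'
  rw [← map_pow, ← map_mul, ch_pow, hc]
  congr 1
  rw [ch_ext χ, ch_mul, zero_mul]

/-- Equivariance on the coordinate. -/
theorem smul_linePt (a : MonAct (AMonS S ℤ) X) (γ : AMonS S ↥N1 ⊗ Over.mk s ⟶ X)
    (hγ : MonAct.IsEquivariant ((subAct S ℤ N1).prod (MonAct.trivial (AMonS S ℤ) (Over.mk s))) a γ)
    {E : Type u} [CommRing E] (j : B →+* E) (v : Eˣ) (c : E) :
    linePt s j ((v : E) * c) ≫ γ = lift (amsPoint ℤ (str s j) (uch v)) (linePt s j c ≫ γ) ≫ a.act := by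
  have h := (MonAct.mem_eqvHom_iff γ).1 hγ _ (amsPoint ℤ (str s j) (uch v)) (amsPoint ↥N1 (str s j) (ch c)) (toY s j)
  refine Eq.trans ?_ h
  congr 1
  change lift _ _ = lift (lift _ _ ≫ ((MonAct.regular (AMonS S ↥N1)).restrict (AMonS.map S N1.subtype)).act) _
  rw [MonAct.lift_restrict_act, MonAct.lift_regular_act, amsPoint_map, uch_subtype, ← map_mul, ch_mul]

variable (B) in
/-- `B[t][σ]`, with `σ` scaling the coordinate. -/
def scale : Polynomial B →+* Polynomial (Polynomial B) :=
  Polynomial.eval₂RingHom (Polynomial.C.comp Polynomial.C) (Polynomial.X * Polynomial.C Polynomial.X)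

theorem scale_C (b : B) : scale B (Polynomial.C b) = Polynomial.C (Polynomial.C b) := Polynomial.eval₂_C _ _

theorem scale_X : scale B Polynomial.X = Polynomial.X * Polynomial.C Polynomial.X := Polynomial.eval₂_X _ _

/-- The key case: both maps send a basic open containing the origin section into an affine open. -/
theorem eq_of_affine (a : MonAct (AMonS S ℤ) X)
    (h₁ : MonAct.IsEquivariant ((subAct S ℤ N1).prod (MonAct.trivial (AMonS S ℤ) (Over.mk s))) a γ₁)
    (h₂ : MonAct.IsEquivariant ((subAct S ℤ N1).prod (MonAct.trivial (AMonS S ℤ) (Over.mk s))) a γ₂)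
    (hag : Agree γ₁ γ₂) (f : Polynomial B) (hf : IsUnit (f.coeff 0)) (U : X.left.Opens) (hU : IsAffineOpen U)
    (hf₁ : PrimeSpectrum.basicOpen f ≤ (chart s ≫ γ₁).left ⁻¹ᵁ U)
    (hf₂ : PrimeSpectrum.basicOpen f ≤ (chart s ≫ γ₂).left ⁻¹ᵁ U) : γ₁ = γ₂ := by
  let Ch := Localization.Away f
  let l : Polynomial B →+* Ch := algebraMap _ _
  have hr : ∀ (γ : AMonS S ↥N1 ⊗ Over.mk s ⟶ X), PrimeSpectrum.basicOpen f ≤ (chart s ≫ γ).left ⁻¹ᵁ U →
      Set.range (Spec.map (CommRingCat.ofHom l) ≫ (chart s ≫ γ).left) ⊆ Set.range U.ι := by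
    intro γ hγ
    rintro x ⟨z, rfl⟩
    rw [U.range_ι]
    refine hγ ?_
    have hz : Spec.map (CommRingCat.ofHom l) z ∈ Set.range (PrimeSpectrum.comap l) := ⟨z, rfl⟩
    rw [PrimeSpectrum.localization_away_comap_range Ch f] at hz
    exact hz
  let u₁ : Spec (CommRingCat.of Ch) ⟶ U.toScheme :=
    IsOpenImmersion.lift U.ι (Spec.map (CommRingCat.ofHom l) ≫ (chart s ≫ γ₁).left) (hr _ hf₁)
  let u₂ : Spec (CommRingCat.of Ch) ⟶ U.toScheme :=
    IsOpenImmersion.lift U.ι (Spec.map (CommRingCat.ofHom l) ≫ (chart s ≫ γ₂).left) (hr _ hf₂)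
  have hu₁ : u₁ ≫ U.ι = Spec.map (CommRingCat.ofHom l) ≫ (chart s ≫ γ₁).left := IsOpenImmersion.lift_fac _ _ _
  have hu₂ : u₂ ≫ U.ι = Spec.map (CommRingCat.ofHom l) ≫ (chart s ≫ γ₂).left := IsOpenImmersion.lift_fac _ _ _
  obtain ⟨φ₁, hφ₁⟩ := Spec.map_surjective (u₁ ≫ hU.isoSpec.hom)
  obtain ⟨φ₂, hφ₂⟩ := Spec.map_surjective (u₂ ≫ hU.isoSpec.hom)
  have key : φ₁ = φ₂ := by
    ext x
    obtain ⟨q, ⟨_, k, rfl⟩, hq⟩ := IsLocalization.exists_mk'_eq (Submonoid.powers f) (φ₁.hom x - φ₂.hom x)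
    have hdvd : ∀ n : ℕ, Polynomial.X ^ (n + 1) ∣ q := by
      intro n
      rw [← Ideal.mem_span_singleton, ← Ideal.Quotient.eq_zero_iff_mem]
      let Q := Polynomial B ⧸ Ideal.span {(Polynomial.X : Polynomial B) ^ (n + 1)}
      let π : Polynomial B →+* Q := Ideal.Quotient.mk _
      have hX : π Polynomial.X ^ (n + 1) = 0 := by
        rw [← map_pow, Ideal.Quotient.eq_zero_iff_mem]
        exact Ideal.mem_span_singleton_self _
      have hfu : IsUnit (π f) := by
        obtain ⟨g, hg⟩ : Polynomial.X ∣ f - Polynomial.C (f.coeff 0) := by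
          rw [Polynomial.X_dvd_iff]; simp
        have : π f = π (Polynomial.C (f.coeff 0)) + π Polynomial.X * π g := by
          rw [← map_mul, ← map_add, ← hg, add_sub_cancel]
        rw [this, _root_.add_comm (π (Polynomial.C (f.coeff 0)))]
        refine IsNilpotent.isUnit_add_right_of_commute ?_ ((hf.map Polynomial.C).map π) (Commute.all _ _)
        exact ⟨n + 1, by rw [mul_pow, hX, zero_mul]⟩
      let π' : Ch →+* Q := IsLocalization.Away.lift f hfu
      have hπ' : π'.comp l = π := IsLocalization.Away.lift_comp f hfu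
      have he : linePt s (π.comp Polynomial.C) (π Polynomial.X) ≫ γ₁ =
          linePt s (π.comp Polynomial.C) (π Polynomial.X) ≫ γ₂ := hag.linePt_eq s _ _ n hX
      have he' : Spec.map (CommRingCat.ofHom π') ≫ u₁ = Spec.map (CommRingCat.ofHom π') ≫ u₂ := by
        rw [← cancel_mono U.ι, Category.assoc, Category.assoc, hu₁, hu₂, ← Spec.map_comp_assoc, ← Spec.map_comp_assoc,
          ← CommRingCat.ofHom_comp, hπ', Over.comp_left, Over.comp_left, reassoc_of% chart_comp s π _ rfl, reassoc_of% chart_comp s π _ rfl]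
        exact congrArg CommaMorphism.left he
      have he2 : CommRingCat.ofHom π' = CommRingCat.ofHom π' := rfl
      have he3 : φ₁ ≫ CommRingCat.ofHom π' = φ₂ ≫ CommRingCat.ofHom π' := by
        apply Spec.map_injective
        rw [Spec.map_comp, Spec.map_comp, hφ₁, hφ₂, reassoc_of% he']
      have h0 : π' (φ₁.hom x - φ₂.hom x) = 0 := by
        rw [map_sub, sub_eq_zero]
        exact congrArg (fun g => g.hom x) he3
      have h1 : π' (IsLocalization.mk' Ch q (⟨f ^ k, ⟨k, rfl⟩⟩ : Submonoid.powers f) * l (f ^ k)) = π q := by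
        rw [IsLocalization.mk'_spec]
        exact RingHom.congr_fun hπ' q
      change π q = 0
      rw [← h1, map_mul]
      have : π' (IsLocalization.mk' Ch q (⟨f ^ k, ⟨k, rfl⟩⟩ : Submonoid.powers f)) = 0 := by
        rw [← h0]
        exact congrArg π' hq
      rw [this, zero_mul]
    have : q = 0 := by
      ext d
      obtain ⟨g, hg⟩ := hdvd d
      rw [hg, Polynomial.coeff_X_pow_mul', if_neg (by omega), Polynomial.coeff_zero]
    rw [this, IsLocalization.mk'_zero] at hq
    exact sub_eq_zero.1 hq.symm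
  have hu : u₁ = u₂ := by
    rw [← cancel_mono hU.isoSpec.hom, ← hφ₁, ← hφ₂, key]
  have hD : Spec.map (CommRingCat.ofHom l) ≫ (chart s ≫ γ₁).left =
      Spec.map (CommRingCat.ofHom l) ≫ (chart s ≫ γ₂).left := by rw [← hu₁, ← hu₂, hu]
  let g₀ : Polynomial (Polynomial B) := Polynomial.X * scale B f
  let E := Localization.Away g₀
  let lE : Polynomial (Polynomial B) →+* E := algebraMap _ _
  have hu0 : IsUnit (lE g₀) := IsLocalization.Away.algebraMap_isUnit g₀
  have hu' : IsUnit (lE Polynomial.X) ∧ IsUnit (lE (scale B f)) := IsUnit.mul_iff.1 (by rwa [← map_mul])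
  let ψt : Polynomial B →+* E := lE.comp Polynomial.C
  let ψs : Polynomial B →+* E := lE.comp (scale B)
  let jE : B →+* E := ψt.comp Polynomial.C
  have hjs : ψs.comp Polynomial.C = jE := RingHom.ext fun b => congrArg lE (scale_C b)
  let v : Eˣ := hu'.1.unit⁻¹
  have hvc : (v : E) * ψs Polynomial.X = ψt Polynomial.X := by
    have : ψs Polynomial.X = lE Polynomial.X * ψt Polynomial.X := by
      change lE (scale B Polynomial.X) = _
      rw [scale_X, map_mul]
      rfl
    rw [this, ← _root_.mul_assoc, IsUnit.val_inv_mul, _root_.one_mul]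
  have hs : linePt s jE (ψs Polynomial.X) ≫ γ₁ = linePt s jE (ψs Polynomial.X) ≫ γ₂ := by
    apply Over.OverMorphism.ext
    have hfac : (IsLocalization.Away.lift f (g := ψs) hu'.2 : Ch →+* E).comp l = ψs :=
      IsLocalization.Away.lift_comp f hu'.2
    have := congrArg (Spec.map (CommRingCat.ofHom (IsLocalization.Away.lift f (g := ψs) hu'.2 : Ch →+* E)) ≫ ·) hD
    rw [← Spec.map_comp_assoc, ← Spec.map_comp_assoc, ← CommRingCat.ofHom_comp, hfac, Over.comp_left, Over.comp_left,
      reassoc_of% chart_comp s ψs jE hjs, reassoc_of% chart_comp s ψs jE hjs] at this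
    exact this
  have ht : linePt s jE (ψt Polynomial.X) ≫ γ₁ = linePt s jE (ψt Polynomial.X) ≫ γ₂ := by
    rw [← hvc, smul_linePt s a γ₁ h₁, smul_linePt s a γ₂ h₂, hs]
  have hflat : ψt.Flat := by
    refine RingHom.Flat.comp ?_ ?_
    · rw [← Polynomial.algebraMap_eq, RingHom.flat_algebraMap_iff]
      infer_instance
    · rw [RingHom.flat_algebraMap_iff]
      exact IsLocalization.flat E (Submonoid.powers g₀)
  have : Flat (Spec.map (CommRingCat.ofHom ψt)) := (HasRingHomProperty.Spec_iff (P := @Flat)).2 hflat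
  have hsurj : Function.Surjective (PrimeSpectrum.comap ψt) := by
    intro p
    let κ := FractionRing (Polynomial B ⧸ p.asIdeal)
    let ρ : Polynomial B →+* κ := (algebraMap _ κ).comp (Ideal.Quotient.mk p.asIdeal)
    have hρ : ∀ x, ρ x = 0 ↔ x ∈ p.asIdeal := fun x => by
      change algebraMap _ κ (Ideal.Quotient.mk p.asIdeal x) = 0 ↔ _
      rw [IsFractionRing.to_map_eq_zero_iff, Ideal.Quotient.eq_zero_iff_mem]
    let Φ : Polynomial (Polynomial B) →+* Polynomial κ := Polynomial.mapRingHom ρ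
    have hg : Φ g₀ ≠ 0 := by
      change Φ (Polynomial.X * scale B f) ≠ 0
      rw [map_mul]
      refine mul_ne_zero (by simp [Φ]) fun h0 => ?_
      have h00 : ρ ((scale B f).coeff 0) = 0 := by
        have := congrArg (fun q => Polynomial.coeff q 0) h0
        simpa [Φ, Polynomial.coeff_map] using this
      have hc : (scale B f).coeff 0 = Polynomial.C (f.coeff 0) := by
        have : (Polynomial.constantCoeff : Polynomial (Polynomial B) →+* _).comp (scale B) =
            Polynomial.C.comp Polynomial.constantCoeff := by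
          refine Polynomial.ringHom_ext (fun b => ?_) ?_
          · simp [scale_C]
          · simp [scale_X]
        exact RingHom.congr_fun this f
      rw [hc, hρ] at h00
      exact p.isPrime.ne_top (Ideal.eq_top_of_isUnit_mem _ h00 (hf.map Polynomial.C))
    let Ψ : Polynomial (Polynomial B) →+* FractionRing (Polynomial κ) := (algebraMap (Polynomial κ) _).comp Φ
    have hΨ : IsUnit (Ψ g₀) :=
      isUnit_iff_ne_zero.2 fun h => hg ((IsFractionRing.to_map_eq_zero_iff (K := FractionRing (Polynomial κ))).1 h)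
    let Ψ' : E →+* FractionRing (Polynomial κ) := IsLocalization.Away.lift g₀ hΨ
    refine ⟨⟨RingHom.ker Ψ', RingHom.ker_isPrime _⟩, PrimeSpectrum.ext (Ideal.ext fun x => ?_)⟩
    change Ψ' (lE (Polynomial.C x)) = 0 ↔ _
    rw [IsLocalization.Away.lift_eq]
    change algebraMap (Polynomial κ) (FractionRing (Polynomial κ)) (Φ (Polynomial.C x)) = 0 ↔ _
    rw [IsFractionRing.to_map_eq_zero_iff, ← hρ]
    simp [Φ]
  have : Surjective (Spec.map (CommRingCat.ofHom ψt)) := ⟨hsurj⟩
  have hepi := Flat.epi_of_flat_of_surjective (Spec.map (CommRingCat.ofHom ψt))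
  apply Over.OverMorphism.ext
  have := isIso_chart s
  rw [← cancel_epi (chart s).left, ← cancel_epi (Spec.map (CommRingCat.ofHom ψt)),
    reassoc_of% chart_comp s ψt jE rfl, reassoc_of% chart_comp s ψt jE rfl]
  exact congrArg CommaMorphism.left ht

end GrothLib.MagnetBB
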