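import Groth.Agent.Lib.MagnetPts25.Basic
import Mathlib.Algebra.Polynomial.Eval.Coeff
import Mathlib.Algebra.Group.Int.TypeTags

/-! # The affine line as the diagonalizable monoid scheme of the non-negative integers -/

set_option autoImplicit false
set_option backward.isDefEq.respectTransparency false
set_option backward.isDefEq.respectTransparency.types false

universe u

open CategoryTheory MonoidalCategory CartesianMonoidalCategory MonObj AlgebraicGeometry
open scoped TensorProduct

noncomputable section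

namespace GrothLib.MagnetBB

open Magnet MagnetPts

attribute [local instance 2000] Algebra.toModule

/-- The magnet of non-negative integers. -/
abbrev N1 : AddSubmonoid ℤ := AddSubmonoid.multiples (1 : ℤ)

/-- The generator. -/
def gen : Multiplicative ↥N1 := Multiplicative.ofAdd ⟨1, AddSubmonoid.mem_multiples 1⟩

theorem nonneg (n : Multiplicative ↥N1) : 0 ≤ ((Multiplicative.toAdd n : ↥N1) : ℤ) := by
  obtain ⟨k, hk⟩ := (Multiplicative.toAdd n).2
  rw [← hk]
  simp

/-- The exponent. -/
def deg (n : Multiplicative ↥N1) : ℕ := ((Multiplicative.toAdd n : ↥N1) : ℤ).toNat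

theorem gen_pow_deg (n : Multiplicative ↥N1) : gen ^ deg n = n := by
  apply Multiplicative.toAdd.injective
  apply Subtype.ext
  rw [toAdd_pow, AddSubmonoidClass.coe_nsmul]
  simp [gen, deg, Int.toNat_of_nonneg (nonneg n)]

@[simp] theorem deg_gen : deg gen = 1 := rfl

@[simp] theorem deg_one : deg 1 = 0 := rfl

theorem deg_mul (m n : Multiplicative ↥N1) : deg (m * n) = deg m + deg n := by
  simp [deg, Int.toNat_add (nonneg m) (nonneg n)]

variable {C : Type*} [CommRing C]

/-- The character of an element. -/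
def ch (c : C) : Multiplicative ↥N1 →* C where
  toFun n := c ^ deg n
  map_one' := by simp
  map_mul' m n := by rw [deg_mul, pow_add]

@[simp] theorem ch_gen (c : C) : ch c gen = c := by simp [ch]

theorem ch_ext (χ : Multiplicative ↥N1 →* C) : χ = ch (χ gen) := by
  refine MonoidHom.ext fun n => ?_
  change χ n = χ gen ^ deg n
  rw [← map_pow, gen_pow_deg]

theorem ch_mul (c d : C) : ch c * ch d = ch (c * d) := by
  refine MonoidHom.ext fun n => ?_
  exact (mul_pow c d (deg n)).symm

theorem ch_pow (c : C) (k : ℕ) : ch c ^ k = ch (c ^ k) := by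
  rw [ch_ext (ch c ^ k)]
  simp [MonoidHom.pow_apply]

theorem comp_ch {D : Type*} [CommRing D] (h : C →+* D) (c : C) : (h : C →* D).comp (ch c) = ch (h c) := by
  refine MonoidHom.ext fun n => ?_
  exact map_pow h c (deg n)

/-- The character of a unit. -/
def uch (c : Cˣ) : Multiplicative ℤ →* C := (Units.coeHom C).comp (zpowersHom Cˣ c)

theorem uch_subtype (c : Cˣ) : (uch c).comp (AddMonoidHom.toMultiplicative N1.subtype) = ch (c : C) := by
  refine (ch_ext _).trans ?_
  congr 1
  simp [uch, gen]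

/-- Evaluation at a monomial, for an arbitrary algebra structure. -/
theorem lift_toRingHom_single {A : Type u} [CommRing A] {N : Type} [Monoid N] {inst : Algebra (ULift.{u} ℤ) A}
    (χ : N →* A) (m : N) :
    (MonoidAlgebra.lift (ULift.{u} ℤ) A N χ).toRingHom (MonoidAlgebra.single m 1) = χ m :=
  MonoidAlgebra.lift_of χ m

variable {S : Scheme.{u}} {B : Type u} [CommRing B] (s : Spec (CommRingCat.of B) ⟶ S)

/-- `Spec E` over `S` through a map from `B`. -/
abbrev str {E : Type u} [CommRing E] (j : B →+* E) : Spec (CommRingCat.of E) ⟶ S :=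
  Spec.map (CommRingCat.ofHom j) ≫ s

/-- The structure map. -/
abbrev toY {E : Type u} [CommRing E] (j : B →+* E) : Over.mk (str s j) ⟶ Over.mk s :=
  Over.homMk (Spec.map (CommRingCat.ofHom j)) rfl

/-- The point `(c, j)` of the affine line over `Y`. -/
def linePt {E : Type u} [CommRing E] (j : B →+* E) (c : E) : Over.mk (str s j) ⟶ AMonS S ↥N1 ⊗ Over.mk s :=
  lift (amsPoint ↥N1 (str s j) (ch c)) (toY s j)

/-- The coordinate chart of the affine line over `Y`. -/
abbrev chart : Over.mk (str s (Polynomial.C : B →+* Polynomial B)) ⟶ AMonS S ↥N1 ⊗ Over.mk s :=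
  linePt s Polynomial.C Polynomial.X

theorem linePt_snd {E : Type u} [CommRing E] (j : B →+* E) (c : E) :
    linePt s j c ≫ snd _ _ = toY s j := lift_snd _ _

theorem linePt_fst {E : Type u} [CommRing E] (j : B →+* E) (c : E) :
    linePt s j c ≫ fst _ _ = amsPoint ↥N1 (str s j) (ch c) := lift_fst _ _

theorem linePt_comp {E E' : Type u} [CommRing E] [CommRing E'] (j : B →+* E) (c : E) (φ : E →+* E')
    (j' : B →+* E') (hj : φ.comp j = j') :
    Spec.map (CommRingCat.ofHom φ) ≫ (linePt s j c).left = (linePt s j' (φ c)).left := by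
  have hp : Spec.map (CommRingCat.ofHom φ) ≫ str s j = str s j' := by
    subst hj
    simp [str]
  have key : (Over.homMk (Spec.map (CommRingCat.ofHom φ)) hp : Over.mk (str s j') ⟶ Over.mk (str s j)) ≫ linePt s j c =
      linePt s j' (φ c) := by
    rw [linePt, linePt, comp_lift, amsPoint_comp, comp_ch]
    congr 1
    apply Over.OverMorphism.ext
    subst hj
    change Spec.map _ ≫ Spec.map _ = Spec.map _
    rw [← Spec.map_comp]
    rfl
  exact congrArg CommaMorphism.left key

theorem chart_comp {E : Type u} [CommRing E] (φ : Polynomial B →+* E) (j : B →+* E)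
    (hj : φ.comp Polynomial.C = j) :
    Spec.map (CommRingCat.ofHom φ) ≫ (chart s).left = (linePt s j (φ Polynomial.X)).left :=
  linePt_comp s _ _ φ j hj

theorem isIso_chart : IsIso (chart s).left := by
  let : Algebra (ULift.{u} ℤ) B := ULift.algebra' ℤ B
  obtain ⟨e, he₁, he₂⟩ := MagnetSep.exists_spec_square (S := S) (↥N1) (CommRingCat.of B) s
  have : IsScalarTower (ULift.{u} ℤ) (ULift.{u} ℤ) B := ⟨fun a b c => mul_smul a.down b.down c⟩
  let : Algebra (ULift.{u} ℤ) (Polynomial B) := ULift.algebra' ℤ (Polynomial B)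
  have : IsScalarTower (ULift.{u} ℤ) (ULift.{u} ℤ) (Polynomial B) := ⟨fun a b c => mul_smul a.down b.down c⟩
  let jL : B →ₐ[ULift.{u} ℤ] Polynomial B := ⟨Polynomial.C, fun r => RingHom.congr_fun (uz_hom_ext
    (Polynomial.C.comp (algebraMap (ULift.{u} ℤ) B)) (algebraMap (ULift.{u} ℤ) (Polynomial B))) r⟩
  let θ : B ⊗[ULift.{u} ℤ] MagnetSep.MAlg.{u} ↥N1 →ₐ[ULift.{u} ℤ] Polynomial B :=
    Algebra.TensorProduct.lift jL (MonoidAlgebra.lift (ULift.{u} ℤ) (Polynomial B) _ (ch Polynomial.X))
      fun _ _ => .all _ _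
  let incl : B →+* B ⊗[ULift.{u} ℤ] MagnetSep.MAlg.{u} ↥N1 := Algebra.TensorProduct.includeLeftRingHom
  let inr : MagnetSep.MAlg.{u} ↥N1 →ₐ[ULift.{u} ℤ] B ⊗[ULift.{u} ℤ] MagnetSep.MAlg.{u} ↥N1 :=
    Algebra.TensorProduct.includeRight
  let θ' : Polynomial B →+* B ⊗[ULift.{u} ℤ] MagnetSep.MAlg.{u} ↥N1 :=
    Polynomial.eval₂RingHom incl (inr (MonoidAlgebra.of _ _ gen))
  have hl : ∀ b : B, θ (incl b) = Polynomial.C b := fun b => by
    simp [θ, incl, jL, Algebra.TensorProduct.includeLeftRingHom]
  have hr : ∀ m, θ (inr m) = MonoidAlgebra.lift (ULift.{u} ℤ) (Polynomial B) _ (ch Polynomial.X) m := fun m => by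
    simp [θ, inr]
  have h1 : θ'.comp θ.toRingHom = RingHom.id _ := by
    refine Algebra.TensorProduct.ringHom_ext ?_ ?_
    · refine RingHom.ext fun b => ?_
      change θ' (θ (incl b)) = incl b
      rw [hl]
      exact Polynomial.eval₂_C _ _
    · refine MonoidAlgebra.ringHom_ext (fun r => ?_) fun m => ?_
      · have hz : ∀ {A : Type u} [CommRing A] (φ ψ : MagnetSep.MAlg.{u} ↥N1 →+* A),
            φ (MonoidAlgebra.single 1 r) = ψ (MonoidAlgebra.single 1 r) := fun φ ψ => RingHom.congr_fun (uz_hom_ext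
          (φ.comp (MonoidAlgebra.singleOneRingHom (R := ULift.{u} ℤ) (M := Multiplicative ↥N1)))
          (ψ.comp (MonoidAlgebra.singleOneRingHom (R := ULift.{u} ℤ) (M := Multiplicative ↥N1)))) r
        exact hz (A := B ⊗[ULift.{u} ℤ] MagnetSep.MAlg.{u} ↥N1) _ _
      · change θ' (θ (inr (MonoidAlgebra.of _ _ m))) = inr (MonoidAlgebra.of _ _ m)
        rw [hr, MonoidAlgebra.lift_of]
        change θ' (Polynomial.X ^ deg m) = _
        rw [map_pow]
        change (Polynomial.eval₂ _ _ Polynomial.X) ^ deg m = _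
        rw [Polynomial.eval₂_X, ← map_pow, ← map_pow, gen_pow_deg]
  have h2 : θ.toRingHom.comp θ' = RingHom.id _ := by
    refine Polynomial.ringHom_ext (fun b => ?_) ?_
    · change θ (Polynomial.eval₂ _ _ (Polynomial.C b)) = Polynomial.C b
      rw [Polynomial.eval₂_C, hl]
    · change θ (Polynomial.eval₂ _ _ Polynomial.X) = Polynomial.X
      rw [Polynomial.eval₂_X, hr, MonoidAlgebra.lift_of, ch_gen]
  let eθ : CommRingCat.of (B ⊗[ULift.{u} ℤ] MagnetSep.MAlg.{u} ↥N1) ≅ CommRingCat.of (Polynomial B) :=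
    { hom := CommRingCat.ofHom θ.toRingHom
      inv := CommRingCat.ofHom θ'
      hom_inv_id := CommRingCat.hom_ext h1
      inv_hom_id := CommRingCat.hom_ext h2 }
  have key : ((chart s).left : _ ⟶ _) = Spec.map eθ.hom ≫ e.hom := by
    refine hom_ext_left _ _ ?_ ?_
    · rw [Category.assoc, he₁, ← Over.comp_left, linePt_snd]
      change Spec.map _ = _
      rw [← Spec.map_comp, ← CommRingCat.ofHom_comp]
      congr 2
      exact RingHom.ext fun b => (hl b).symm
    · rw [Category.assoc, he₂, ← Category.assoc, ← Over.comp_left, linePt_fst, amsPoint_fst]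
      erw [← Spec.map_comp]
      rw [← CommRingCat.ofHom_comp]
      congr 2
      refine MonoidAlgebra.ringHom_ext (fun r => ?_) fun m => ?_
      · have hz : ∀ {A : Type u} [CommRing A] (φ ψ : MagnetSep.MAlg.{u} ↥N1 →+* A),
            φ (MonoidAlgebra.single 1 r) = ψ (MonoidAlgebra.single 1 r) := fun φ ψ => RingHom.congr_fun (uz_hom_ext
          (φ.comp (MonoidAlgebra.singleOneRingHom (R := ULift.{u} ℤ) (M := Multiplicative ↥N1)))
          (ψ.comp (MonoidAlgebra.singleOneRingHom (R := ULift.{u} ℤ) (M := Multiplicative ↥N1)))) r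
        exact hz _ _
      · have hR : θ (inr (MonoidAlgebra.of _ _ m)) = ch Polynomial.X m := (hr _).trans (MonoidAlgebra.lift_of _ _)
        refine Eq.trans ?_ hR.symm
        exact lift_toRingHom_single _ _
  rw [key]
  exact (Scheme.Spec.mapIso eθ.op ≪≫ e).isIso_hom

end GrothLib.MagnetBB
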