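import Groth.Agent.Lib.MagnetBB25.Core

/-! # Injectivity of the map from the Białynicki-Birula functor to its formal version -/

set_option autoImplicit false
set_option backward.isDefEq.respectTransparency false
set_option backward.isDefEq.respectTransparency.types false

universe u

open CategoryTheory MonoidalCategory CartesianMonoidalCategory MonObj AlgebraicGeometry Opposite

noncomputable section

namespace GrothLib.MagnetBB

open Magnet MagnetPts

variable {S : Scheme.{u}} {X : Over S}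

/-- Restricting an element of the functor of equivariant maps. -/
theorem isEquivariant_comp (a : MonAct (AMonS S ℤ) X) {T T' : Over S} (v : T' ⟶ T) {γ : AMonS S ↥N1 ⊗ T ⟶ X}
    (h : MonAct.IsEquivariant ((subAct S ℤ N1).prod (MonAct.trivial (AMonS S ℤ) T)) a γ) :
    MonAct.IsEquivariant ((subAct S ℤ N1).prod (MonAct.trivial (AMonS S ℤ) T')) a ((AMonS S ↥N1 ◁ v) ≫ γ) :=
  (((attr a N1).map v.op) ⟨γ, h⟩).2

theorem chart_map {B B' : Type u} [CommRing B] [CommRing B'] (s : Spec (CommRingCat.of B) ⟶ S) (σ : B →+* B') :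
    (chart (str s σ)).left ≫ (AMonS S ↥N1 ◁ toY s σ).left =
      Spec.map (CommRingCat.ofHom (Polynomial.mapRingHom σ)) ≫ (chart s).left := by
  rw [chart_comp s (Polynomial.mapRingHom σ) ((Polynomial.C : B' →+* Polynomial B').comp σ)
    (RingHom.ext fun b => Polynomial.map_C σ)]
  have hstr : str (str s σ) (Polynomial.C : B' →+* Polynomial B') = str s (Polynomial.C.comp σ) := by
    simp [str]
  refine hom_ext_left _ _ ?_ ?_
  · rw [Category.assoc, ← Over.comp_left, whiskerLeft_snd, Over.comp_left, ← Category.assoc, ← Over.comp_left,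
      linePt_snd, ← Over.comp_left, ← Over.comp_left, linePt_snd]
    change Spec.map _ ≫ Spec.map _ = Spec.map _
    rw [← Spec.map_comp]
    rfl
  · rw [Category.assoc, ← Category.assoc (AMonS S ↥N1 ◁ toY s σ).left, ← Over.comp_left, whiskerLeft_fst]
    rw [← Category.assoc, ← Category.assoc, ← Over.comp_left, ← Over.comp_left, linePt_fst, linePt_fst,
      amsPoint_fst, amsPoint_fst]
    congr 3
    simp

theorem eq_of_agree_spec {B : Type u} [CommRing B] (s : Spec (CommRingCat.of B) ⟶ S)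
    {γ₁ γ₂ : AMonS S ↥N1 ⊗ Over.mk s ⟶ X} (a : MonAct (AMonS S ℤ) X)
    (h₁ : MonAct.IsEquivariant ((subAct S ℤ N1).prod (MonAct.trivial (AMonS S ℤ) (Over.mk s))) a γ₁)
    (h₂ : MonAct.IsEquivariant ((subAct S ℤ N1).prod (MonAct.trivial (AMonS S ℤ) (Over.mk s))) a γ₂)
    (hag : Agree γ₁ γ₂) (y : PrimeSpectrum B) :
    ∃ r : B, y ∈ PrimeSpectrum.basicOpen r ∧
      (AMonS S ↥N1 ◁ toY s (algebraMap B (Localization.Away r))) ≫ γ₁ =
        (AMonS S ↥N1 ◁ toY s (algebraMap B (Localization.Away r))) ≫ γ₂ := by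
  let e0 : Polynomial B →+* B := Polynomial.evalRingHom 0
  have he0 : Spec.map (CommRingCat.ofHom e0) ≫ (chart s ≫ γ₁).left =
      Spec.map (CommRingCat.ofHom e0) ≫ (chart s ≫ γ₂).left := by
    have hj : e0.comp Polynomial.C = RingHom.id B := RingHom.ext fun b => Polynomial.eval_C
    have hX : e0 Polynomial.X ^ (0 + 1) = 0 := by simp [e0]
    rw [Over.comp_left, Over.comp_left, reassoc_of% chart_comp s e0 _ hj, reassoc_of% chart_comp s e0 _ hj]
    exact congrArg CommaMorphism.left (hag.linePt_eq s _ _ 0 hX)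
  let z : PrimeSpectrum (Polynomial B) := PrimeSpectrum.comap e0 y
  let x₁ := (chart s ≫ γ₁).left.base z
  have hx : (chart s ≫ γ₂).left.base z = x₁ := (congrArg (fun q : Spec (CommRingCat.of B) ⟶ X.left => q.base y) he0).symm
  obtain ⟨U, hU, hxU, -⟩ := exists_isAffineOpen_mem_and_subset (x := x₁) (U := ⊤) trivial
  let V := (chart s ≫ γ₁).left ⁻¹ᵁ U ⊓ (chart s ≫ γ₂).left ⁻¹ᵁ U
  have hzV : z ∈ V := ⟨hxU, show (chart s ≫ γ₂).left.base z ∈ U by rw [hx]; exact hxU⟩
  obtain ⟨_, ⟨_, ⟨f, rfl⟩, rfl⟩, hzf, hfV⟩ :=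
    PrimeSpectrum.isBasis_basic_opens.exists_subset_of_mem_open hzV V.2
  have hr : f.coeff 0 ∉ y.asIdeal := by
    rw [Polynomial.coeff_zero_eq_eval_zero]
    exact hzf
  refine ⟨f.coeff 0, hr, ?_⟩
  let σ : B →+* Localization.Away (f.coeff 0) := algebraMap _ _
  let f' := Polynomial.mapRingHom σ f
  have hf' : IsUnit (f'.coeff 0) := by
    simp only [f', Polynomial.coe_mapRingHom, Polynomial.coeff_map]
    exact IsLocalization.Away.algebraMap_isUnit _
  have hle : ∀ (γ : AMonS S ↥N1 ⊗ Over.mk s ⟶ X),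
      PrimeSpectrum.basicOpen f ≤ (chart s ≫ γ).left ⁻¹ᵁ U →
      PrimeSpectrum.basicOpen f' ≤ (chart (str s σ) ≫ (AMonS S ↥N1 ◁ toY s σ) ≫ γ).left ⁻¹ᵁ U := by
    intro γ hγ w hw
    rw [Over.comp_left, Over.comp_left, reassoc_of% chart_map s σ]
    exact hγ hw
  refine eq_of_affine (str s σ) a (isEquivariant_comp a (toY s σ) h₁) (isEquivariant_comp a (toY s σ) h₂)
    (hag.comp (toY s σ)) f' hf' U hU (hle _ ?_) (hle _ ?_)
  · exact fun w hw => (hfV hw).1
  · exact fun w hw => (hfV hw).2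

theorem eq_of_agree {Y : Over S} (a : MonAct (AMonS S ℤ) X) {γ₁ γ₂ : AMonS S ↥N1 ⊗ Y ⟶ X}
    (h₁ : MonAct.IsEquivariant ((subAct S ℤ N1).prod (MonAct.trivial (AMonS S ℤ) Y)) a γ₁)
    (h₂ : MonAct.IsEquivariant ((subAct S ℤ N1).prod (MonAct.trivial (AMonS S ℤ) Y)) a γ₂)
    (hag : Agree γ₁ γ₂) : γ₁ = γ₂ := by
  have key : ∀ p : Y.left, ∃ (W : Over S) (v : W ⟶ Y), IsOpenImmersion v.left ∧ p ∈ Set.range v.left.base ∧
      (AMonS S ↥N1 ◁ v) ≫ γ₁ = (AMonS S ↥N1 ◁ v) ≫ γ₂ := by
    intro p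
    obtain ⟨U, hU, hpU, -⟩ := exists_isAffineOpen_mem_and_subset (x := p) (U := ⊤) trivial
    obtain ⟨q, hq⟩ : p ∈ Set.range hU.fromSpec.base := by rw [hU.range_fromSpec]; exact hpU
    let v₀ : Over.mk (hU.fromSpec ≫ Y.hom) ⟶ Y := Over.homMk hU.fromSpec rfl
    obtain ⟨r, hr, he⟩ := eq_of_agree_spec (B := Γ(Y.left, U)) (hU.fromSpec ≫ Y.hom) a (isEquivariant_comp a v₀ h₁)
      (isEquivariant_comp a v₀ h₂) (hag.comp v₀) q
    have ho : IsOpenImmersion (Spec.map (CommRingCat.ofHom (algebraMap Γ(Y.left, U) (Localization.Away r)))) :=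
      IsOpenImmersion.of_isLocalization r
    refine ⟨_, toY (hU.fromSpec ≫ Y.hom) (algebraMap Γ(Y.left, U) (Localization.Away r)) ≫ v₀, ?_, ?_, ?_⟩
    · exact inferInstanceAs (IsOpenImmersion
        (Spec.map (CommRingCat.ofHom (algebraMap Γ(Y.left, U) (Localization.Away r))) ≫ hU.fromSpec))
    · have : q ∈ Set.range (PrimeSpectrum.comap (algebraMap Γ(Y.left, U) (Localization.Away r))) := by
        rw [PrimeSpectrum.localization_away_comap_range _ r]
        exact hr
      obtain ⟨w, hw⟩ := this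
      exact ⟨w, (congrArg hU.fromSpec.base hw).trans hq⟩
    · rw [MonoidalCategory.whiskerLeft_comp, Category.assoc, Category.assoc, he]
  choose W v hv hp he using key
  let 𝒱 : Y.left.OpenCover := Scheme.Cover.mkOfCovers Y.left (fun p => (W p).left) (fun p => (v p).left)
    (fun p => ⟨p, hp p⟩) (fun p => hv p)
  apply Over.OverMorphism.ext
  refine Scheme.Cover.hom_ext (Precoverage.ZeroHypercover.pullback₁ (snd (AMonS S ↥N1) Y).left 𝒱) _ _ fun p => ?_
  let c := Limits.pullback.fst (snd (AMonS S ↥N1) Y).left (v p).left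
  let k : Limits.pullback (snd (AMonS S ↥N1) Y).left (v p).left ⟶ (AMonS S ↥N1 ⊗ W p).left :=
    Limits.pullback.lift (c ≫ (fst (AMonS S ↥N1) Y).left) (Limits.pullback.snd _ _) (by
      have e1 : (fst (AMonS S ↥N1) Y).left ≫ (AMonS S ↥N1).hom = (snd (AMonS S ↥N1) Y).left ≫ Y.hom :=
        Limits.pullback.condition
      rw [Category.assoc, e1, Limits.pullback.condition_assoc]
      rw [Over.w])
  have hk : k ≫ (AMonS S ↥N1 ◁ v p).left = c := by
    refine Limits.pullback.hom_ext ?_ ?_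
    · change (k ≫ _) ≫ (fst (AMonS S ↥N1) Y).left = c ≫ (fst (AMonS S ↥N1) Y).left
      rw [Category.assoc, ← Over.comp_left, whiskerLeft_fst]
      exact Limits.pullback.lift_fst _ _ _
    · change (k ≫ _) ≫ (snd (AMonS S ↥N1) Y).left = c ≫ (snd (AMonS S ↥N1) Y).left
      rw [Category.assoc, ← Over.comp_left, whiskerLeft_snd, Over.comp_left, Limits.pullback.condition]
      exact congrArg (· ≫ (v p).left) (Limits.pullback.lift_snd _ _ _)
  change c ≫ γ₁.left = c ≫ γ₂.left
  rw [← hk, Category.assoc, Category.assoc, ← Over.comp_left, ← Over.comp_left, he p]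

end GrothLib.MagnetBB
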